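import Groth.Agent.Lib.KFlat.Scheme
import Groth.Agent.Lib.TensorMod.PullTensor
import Groth.Agent.Lib.Twist.Tensor
import Groth.Agent.Lib.Twist.ProjSpace
import Groth.Prelude.Def_BrSev

/-! # Tensor products of twisted powers -/

set_option autoImplicit false
set_option backward.isDefEq.respectTransparency false
universe u

open CategoryTheory CategoryTheory.Limits AlgebraicGeometry

noncomputable section

namespace Groth.Agent.TwPow29

variable {Y : Scheme.{u}}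

/-- `(⊕ M) ⊗ N ≅ ⊕ (M ⊗ N)` -/
def tensorCoprodIso {r : ℕ} (M : Fin r → Y.Modules) (N : Y.Modules) :
    CohB1.tensorMod (∐ M) N ≅ ∐ fun i => CohB1.tensorMod (M i) N :=
  PreservesCoproduct.iso ((KFlat.Sch.TX Y).flip.obj N) M

/-- `M ⊗ (⊕ N) ≅ ⊕ (M ⊗ N)` -/
def tensorCoprodIso' {r : ℕ} (M : Y.Modules) (N : Fin r → Y.Modules) :
    CohB1.tensorMod M (∐ N) ≅ ∐ fun i => CohB1.tensorMod M (N i) :=
  PreservesCoproduct.iso ((KFlat.Sch.TX Y).obj M) N

/-- powers multiply -/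
def powTensorIso (M N : Y.Modules) (r s : ℕ) :
    CohB1.tensorMod (BrSev.pow M r) (BrSev.pow N s) ≅ BrSev.pow (CohB1.tensorMod M N) (r * s) :=
  tensorCoprodIso _ _ ≪≫ Sigma.mapIso (fun _ => tensorCoprodIso' M fun _ : Fin s => N) ≪≫
    sigmaSigmaIso (fun _ : Fin r => Fin s) (fun _ _ => CohB1.tensorMod M N) ≪≫
    Sigma.whiskerEquiv (g := fun _ : Fin (r * s) => CohB1.tensorMod M N)
      ((Equiv.sigmaEquivProd (Fin r) (Fin s)).trans finProdFinEquiv) (fun _ => Iso.refl _)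

theorem isTwPow_tensorMod {k : Type u} [Field k] {X : Scheme.{u}} {p : X ⟶ Spec (CommRingCat.of k)} {n : ℕ}
    {K : Type u} [Field K] [Algebra k K] (e : BrSev.Splitting p K n) (j l : ℤ) (r s : ℕ)
    (W W' : X.Modules) (hWt : BrSev.IsTwPow e j r W) (hW't : BrSev.IsTwPow e l s W') :
    BrSev.IsTwPow e (j + l) (r * s) (CohB1.tensorMod W W') := by
  obtain ⟨a⟩ := hWt
  obtain ⟨b⟩ := hW't
  obtain ⟨c⟩ := Twist.nonempty_tensor_iso (CohB1.polyGrading n K) j l (Twist.iSup_basicOpen_one n K)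
  exact ⟨M2.pullTensorIso (BrSev.proj p K) W W' ≪≫ M2.tensorIso a b ≪≫ powTensorIso _ _ r s ≪≫
    Sigma.mapIso (fun _ => (M2.pullTensorIso e.iso.hom _ _).symm ≪≫
      (Scheme.Modules.pullback e.iso.hom).mapIso c)⟩

end Groth.Agent.TwPow29

end
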